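import Cfsg.Agent.Lib.Helper5.SU3.FrameL

set_option autoImplicit false

/-! # SU_3(5): orthogonal frames of ternary forms over `ZMod 5` -/

namespace Cfsg.Agent.Lib.Helper5.SU3

open Cfsg.Agent.Lib.Helper37.SUSmall

theorem bl_smul {R : Type*} [CommRing R] (a b c d e f s x0 x1 x2 y0 y1 y2 : R) :
    bl a b c d e f (s * x0) (s * x1) (s * x2) (s * y0) (s * y1) (s * y2) =
      s ^ 2 * bl a b c d e f x0 x1 x2 y0 y1 y2 := by
  simp only [bl]; ring

theorem frame5 : ∀ a b c d e f : ZMod 5, dt a b c d e f ≠ 0 →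
    ∃ x0 x1 x2 : ZMod 5, bl a b c d e f x0 x1 x2 x0 x1 x2 = dt a b c d e f ∧
    ∃ y0 y1 y2 : ZMod 5, bl a b c d e f x0 x1 x2 y0 y1 y2 = 0 ∧
      bl a b c d e f y0 y1 y2 y0 y1 y2 = dt a b c d e f ∧
    ∃ z0 z1 z2 : ZMod 5, bl a b c d e f x0 x1 x2 z0 z1 z2 = 0 ∧
      bl a b c d e f y0 y1 y2 z0 z1 z2 = 0 ∧
      bl a b c d e f z0 z1 z2 z0 z1 z2 = dt a b c d e f := by
  intro a b c d e f h
  obtain ⟨ε, hε, x0, x1, x2, hxx, y0, y1, y2, hxy, hyy, z0, z1, z2, hxz, hyz, hzz⟩ :=
    frameL a b c d e f h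
  let U : Matrix (Fin 3) (Fin 3) (ZMod 5) := !![x0, y0, z0; x1, y1, z1; x2, y2, z2]
  let M : Matrix (Fin 3) (Fin 3) (ZMod 5) := !![a, b, c; b, d, e; c, e, f]
  have hM : M.det = dt a b c d e f := by
    rw [Matrix.det_fin_three]
    simp [M, dt]
  have hG : U.transpose * M * U = ε • (1 : Matrix (Fin 3) (Fin 3) (ZMod 5)) := by
    simp only [bl] at hxx hxy hyy hxz hyz hzz
    ext i j
    fin_cases i <;> fin_cases j <;>
      simp [Matrix.mul_apply, Fin.sum_univ_three, U, M]
    · linear_combination hxx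
    · linear_combination hxy
    · linear_combination hxz
    · linear_combination hxy
    · linear_combination hyy
    · linear_combination hyz
    · linear_combination hxz
    · linear_combination hyz
    · linear_combination hzz
  have hD : U.det * dt a b c d e f * U.det = ε ^ 3 := by
    have := congrArg Matrix.det hG
    rw [Matrix.det_mul, Matrix.det_mul, Matrix.det_transpose, Matrix.det_smul, Matrix.det_one,
      hM] at this
    simpa using this
  have hU : U.det ≠ 0 := by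
    intro h0
    rw [h0] at hD
    simp at hD
    exact hε (pow_eq_zero_iff (by norm_num) |>.1 hD.symm)
  set s : ZMod 5 := ε * (U.det)⁻¹ with hs
  have hs2 : s ^ 2 * ε = dt a b c d e f := by
    rw [hs]
    field_simp
    linear_combination -hD
  refine ⟨s * x0, s * x1, s * x2, ?_, s * y0, s * y1, s * y2, ?_, ?_, s * z0, s * z1, s * z2,
    ?_, ?_, ?_⟩
  · rw [bl_smul, hxx, hs2]
  · rw [bl_smul, hxy, mul_zero]
  · rw [bl_smul, hyy, hs2]
  · rw [bl_smul, hxz, mul_zero]
  · rw [bl_smul, hyz, mul_zero]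
  · rw [bl_smul, hzz, hs2]

end Cfsg.Agent.Lib.Helper5.SU3
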