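import Cfsg.Agent.Lib.Helper37.SUSmall.Frame3

set_option autoImplicit false

/-! # SU_3(5): orthogonal frames of ternary forms over `ZMod 5` (light version) -/

namespace Cfsg.Agent.Lib.Helper5.SU3

open Cfsg.Agent.Lib.Helper37.SUSmall Module

instance : Fact (Nat.Prime 5) := ⟨by norm_num⟩

set_option maxRecDepth 1000000 in
theorem diag5 : ∀ p q r : ZMod 5, p ≠ 0 → q ≠ 0 → r ≠ 0 →
    ∃ x0 x1 x2 : ZMod 5, bl p 0 0 q 0 r x0 x1 x2 x0 x1 x2 = p * q * r ∧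
    ∃ y0 y1 y2 : ZMod 5, bl p 0 0 q 0 r x0 x1 x2 y0 y1 y2 = 0 ∧
      bl p 0 0 q 0 r y0 y1 y2 y0 y1 y2 = p * q * r ∧
    ∃ z0 z1 z2 : ZMod 5, bl p 0 0 q 0 r x0 x1 x2 z0 z1 z2 = 0 ∧
      bl p 0 0 q 0 r y0 y1 y2 z0 z1 z2 = 0 ∧
      bl p 0 0 q 0 r z0 z1 z2 z0 z1 z2 = p * q * r := by
  decide +kernel

theorem orthL (a b c d e f : ZMod 5) (h : dt a b c d e f ≠ 0) :
    ∃ x y z : Fin 3 → ZMod 5,
      bl a b c d e f (x 0) (x 1) (x 2) (x 0) (x 1) (x 2) ≠ 0 ∧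
      bl a b c d e f (y 0) (y 1) (y 2) (y 0) (y 1) (y 2) ≠ 0 ∧
      bl a b c d e f (z 0) (z 1) (z 2) (z 0) (z 1) (z 2) ≠ 0 ∧
      bl a b c d e f (x 0) (x 1) (x 2) (y 0) (y 1) (y 2) = 0 ∧
      bl a b c d e f (x 0) (x 1) (x 2) (z 0) (z 1) (z 2) = 0 ∧
      bl a b c d e f (y 0) (y 1) (y 2) (z 0) (z 1) (z 2) = 0 := by
  let M : Matrix (Fin 3) (Fin 3) (ZMod 5) := !![a, b, c; b, d, e; c, e, f]
  have hdet : M.det = dt a b c d e f := by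
    rw [Matrix.det_fin_three]
    simp [M, dt]
  let B : LinearMap.BilinForm (ZMod 5) (Fin 3 → ZMod 5) := Matrix.toBilin' M
  have hB : ∀ x y : Fin 3 → ZMod 5,
      B x y = bl a b c d e f (x 0) (x 1) (x 2) (y 0) (y 1) (y 2) := by
    intro x y
    simp [B, Matrix.toBilin'_apply', dotProduct, Matrix.mulVec, Fin.sum_univ_three, M, bl]
  have hsymm : LinearMap.IsSymm B := ⟨fun x y => by
    rw [RingHom.id_apply, hB, hB, bl_comm]⟩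
  have : Invertible (2 : ZMod 5) := invertibleOfNonzero (by decide)
  obtain ⟨v, hv⟩ := LinearMap.BilinForm.exists_orthogonal_basis hsymm
  have hnd : B.Nondegenerate :=
    LinearMap.BilinForm.nondegenerate_toBilin'_of_det_ne_zero' M (by rw [hdet]; exact h)
  have hne : ∀ i, B (v i) (v i) ≠ 0 := fun i =>
    LinearMap.BilinForm.iIsOrtho.not_isOrtho_basis_self_of_nondegenerate hv hnd i
  have h3 : finrank (ZMod 5) (Fin 3 → ZMod 5) = 3 := by simp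
  let k : Fin 3 → Fin (finrank (ZMod 5) (Fin 3 → ZMod 5)) := Fin.cast h3.symm
  have hk : ∀ i j : Fin 3, i ≠ j → B (v (k i)) (v (k j)) = 0 := by
    intro i j hij
    apply hv
    intro h'
    apply hij
    exact Fin.cast_injective _ h'
  refine ⟨v (k 0), v (k 1), v (k 2), ?_, ?_, ?_, ?_, ?_, ?_⟩
  · rw [← hB]; exact hne _
  · rw [← hB]; exact hne _
  · rw [← hB]; exact hne _
  · rw [← hB]; exact hk 0 1 (by decide)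
  · rw [← hB]; exact hk 0 2 (by decide)
  · rw [← hB]; exact hk 1 2 (by decide)

/-- linear combinations -/
theorem bl_comb {R : Type*} [CommRing R] (a b c d e f : R) (x y z : Fin 3 → R)
    (X0 X1 X2 Y0 Y1 Y2 : R)
    (hxy : bl a b c d e f (x 0) (x 1) (x 2) (y 0) (y 1) (y 2) = 0)
    (hxz : bl a b c d e f (x 0) (x 1) (x 2) (z 0) (z 1) (z 2) = 0)
    (hyz : bl a b c d e f (y 0) (y 1) (y 2) (z 0) (z 1) (z 2) = 0) :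
    bl a b c d e f (X0 * x 0 + X1 * y 0 + X2 * z 0) (X0 * x 1 + X1 * y 1 + X2 * z 1)
      (X0 * x 2 + X1 * y 2 + X2 * z 2) (Y0 * x 0 + Y1 * y 0 + Y2 * z 0)
      (Y0 * x 1 + Y1 * y 1 + Y2 * z 1) (Y0 * x 2 + Y1 * y 2 + Y2 * z 2) =
    bl (bl a b c d e f (x 0) (x 1) (x 2) (x 0) (x 1) (x 2)) 0 0
      (bl a b c d e f (y 0) (y 1) (y 2) (y 0) (y 1) (y 2)) 0
      (bl a b c d e f (z 0) (z 1) (z 2) (z 0) (z 1) (z 2)) X0 X1 X2 Y0 Y1 Y2 := by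
  simp only [bl] at hxy hxz hyz ⊢
  linear_combination (X0 * Y1 + X1 * Y0) * hxy + (X0 * Y2 + X2 * Y0) * hxz +
    (X1 * Y2 + X2 * Y1) * hyz

/-- the light version of `frame5`: the common value is some non-zero `ε` -/
theorem frameL (a b c d e f : ZMod 5) (h : dt a b c d e f ≠ 0) :
    ∃ ε : ZMod 5, ε ≠ 0 ∧
    ∃ x0 x1 x2 : ZMod 5, bl a b c d e f x0 x1 x2 x0 x1 x2 = ε ∧
    ∃ y0 y1 y2 : ZMod 5, bl a b c d e f x0 x1 x2 y0 y1 y2 = 0 ∧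
      bl a b c d e f y0 y1 y2 y0 y1 y2 = ε ∧
    ∃ z0 z1 z2 : ZMod 5, bl a b c d e f x0 x1 x2 z0 z1 z2 = 0 ∧
      bl a b c d e f y0 y1 y2 z0 z1 z2 = 0 ∧
      bl a b c d e f z0 z1 z2 z0 z1 z2 = ε := by
  obtain ⟨x, y, z, hx, hy, hz, hxy, hxz, hyz⟩ := orthL a b c d e f h
  obtain ⟨X0, X1, X2, hXX, Y0, Y1, Y2, hXY, hYY, Z0, Z1, Z2, hXZ, hYZ, hZZ⟩ := diag5 _ _ _ hx hy hz
  refine ⟨_, mul_ne_zero (mul_ne_zero hx hy) hz,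
    X0 * x 0 + X1 * y 0 + X2 * z 0, X0 * x 1 + X1 * y 1 + X2 * z 1, X0 * x 2 + X1 * y 2 + X2 * z 2,
    ?_,
    Y0 * x 0 + Y1 * y 0 + Y2 * z 0, Y0 * x 1 + Y1 * y 1 + Y2 * z 1, Y0 * x 2 + Y1 * y 2 + Y2 * z 2,
    ?_, ?_,
    Z0 * x 0 + Z1 * y 0 + Z2 * z 0, Z0 * x 1 + Z1 * y 1 + Z2 * z 1, Z0 * x 2 + Z1 * y 2 + Z2 * z 2,
    ?_, ?_, ?_⟩
  · rw [bl_comb a b c d e f x y z X0 X1 X2 X0 X1 X2 hxy hxz hyz]; exact hXX
  · rw [bl_comb a b c d e f x y z X0 X1 X2 Y0 Y1 Y2 hxy hxz hyz]; exact hXY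
  · rw [bl_comb a b c d e f x y z Y0 Y1 Y2 Y0 Y1 Y2 hxy hxz hyz]; exact hYY
  · rw [bl_comb a b c d e f x y z X0 X1 X2 Z0 Z1 Z2 hxy hxz hyz]; exact hXZ
  · rw [bl_comb a b c d e f x y z Y0 Y1 Y2 Z0 Z1 Z2 hxy hxz hyz]; exact hYZ
  · rw [bl_comb a b c d e f x y z Z0 Z1 Z2 Z0 Z1 Z2 hxy hxz hyz]; exact hZZ

end Cfsg.Agent.Lib.Helper5.SU3
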